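import Groth.Agent.S0566
import Groth.Agent.CalgA.NagataBasic
import Groth.Agent.Sga7.H744.Defs
import Mathlib.AlgebraicGeometry.Morphisms.FiniteType

/-!
# Finite normalization of the branches of the closed fibre

`p : X ⟶ Spec R` locally of finite type, `R` local, `x : X` and `P` a prime ideal of `O_{X,x}` containing
the image of the maximal ideal of `R`: `O_{X,x} ⧸ P` is a Nagata ring, its normalization is finite.
-/

set_option autoImplicit false
universe u

open CategoryTheory AlgebraicGeometry IsLocalRing

namespace Groth.Agent.Sga7.H523.FinNorm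

open Groth.Agent.Sga7.H744.Defs Groth.Agent.Ega4B

theorem isNagata_field (k : Type u) [Field k] : CAlg.IsNagata k := by
  refine ⟨inferInstance, ?_⟩
  intro p hp L _ _ _ _ hfin
  have hp' : p = ⊥ := by
    rcases Ideal.eq_bot_or_top p with h | h
    · exact h
    · exact absurd h hp.ne_top
  have hmax : p.IsMaximal := by rw [hp']; exact Ideal.bot_isMaximal
  let : Field (k ⧸ p) := Ideal.Quotient.field p
  have hsurj : Function.Surjective (algebraMap (k ⧸ p) (FractionRing (k ⧸ p))) :=
    IsField.localization_map_bijective (M := nonZeroDivisors (k ⧸ p)) zero_notMem_nonZeroDivisors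
      (Field.toIsField (k ⧸ p)) |>.2
  have h1 : Module.Finite (k ⧸ p) (FractionRing (k ⧸ p)) :=
    Module.Finite.of_surjective (Algebra.linearMap (k ⧸ p) (FractionRing (k ⧸ p))) hsurj
  have h2 : Module.Finite (k ⧸ p) L := Module.Finite.trans (FractionRing (k ⧸ p)) L
  exact Module.Finite.of_injective (Subalgebra.val (integralClosure (k ⧸ p) L)).toLinearMap
    Subtype.val_injective

/-- `B` a localization of a finite type `R`-algebra `A`, `R` local: `B / 𝔪_R B` is Nagata. -/
theorem isNagata_of_essFinite {R A B : Type u} [CommRing R] [IsLocalRing R] [CommRing A] [CommRing B]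
    [Algebra R A] [Algebra.FiniteType R A] [Algebra A B] (M : Submonoid A) [IsLocalization M B] :
    CAlg.IsNagata (B ⧸ (maximalIdeal R).map ((algebraMap A B).comp (algebraMap R A))) := by
  let I : Ideal A := (maximalIdeal R).map (algebraMap R A)
  have hA : CAlg.IsNagata (A ⧸ I) := by
    let φ : ResidueField R →+* A ⧸ I := Ideal.Quotient.lift _ ((Ideal.Quotient.mk I).comp (algebraMap R A))
      (fun a ha => by
        rw [RingHom.comp_apply, Ideal.Quotient.eq_zero_iff_mem]
        exact Ideal.mem_map_of_mem _ ha)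
    have hφ : φ.FiniteType := by
      have h1 : (φ.comp (IsLocalRing.residue R)).FiniteType := by
        have h2 : φ.comp (IsLocalRing.residue R) = (Ideal.Quotient.mk I).comp (algebraMap R A) := by
          ext a; rfl
        rw [h2]
        exact RingHom.FiniteType.comp (RingHom.FiniteType.of_surjective _ Ideal.Quotient.mk_surjective)
          (RingHom.finiteType_algebraMap.2 inferInstance)
      exact RingHom.FiniteType.of_comp_finiteType h1
    let _ := φ.toAlgebra
    have : Algebra.FiniteType (ResidueField R) (A ⧸ I) := hφ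
    exact Groth.Agent.S0566.result (ResidueField R) (isNagata_field _) (A ⧸ I)
  have hI : (maximalIdeal R).map ((algebraMap A B).comp (algebraMap R A)) = I.map (algebraMap A B) := by
    rw [Ideal.map_map]
  rw [hI]
  exact NagBasic.isNagata_localization hA (Algebra.algebraMapSubmonoid (A ⧸ I) M)
    (B ⧸ I.map (algebraMap A B))

theorem isNagata_stalk {R : Type u} [CommRing R] [IsLocalRing R] {X : Scheme.{u}}
    (p : X ⟶ Spec (CommRingCat.of R)) [LocallyOfFiniteType p] (x : X) :
    CAlg.IsNagata (X.presheaf.stalk x ⧸ (maximalIdeal R).map (stalkElt p x)) := by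
  obtain ⟨U, hU, hxU, -⟩ := exists_isAffineOpen_mem_and_subset (x := x) (U := ⊤) trivial
  let φ : R →+* Γ(X, U) := (p.appLE ⊤ U le_top).hom.comp (Scheme.ΓSpecIso (CommRingCat.of R)).inv.hom
  have hφ : φ.FiniteType := by
    refine RingHom.FiniteType.comp ?_ ?_
    · exact p.finiteType_appLE (isAffineOpen_top _) hU _
    · exact RingHom.FiniteType.of_surjective _
        (Scheme.ΓSpecIso (CommRingCat.of R)).symm.commRingCatIsoToRingEquiv.surjective
  let _ := φ.toAlgebra
  have : Algebra.FiniteType R Γ(X, U) := hφ
  let _ := (X.presheaf.germ U x hxU).hom.toAlgebra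
  have hloc := IsAffineOpen.isLocalization_stalk hU ⟨x, hxU⟩
  have h := isNagata_of_essFinite (R := R) (A := Γ(X, U)) (B := X.presheaf.stalk x)
    (hU.primeIdealOf ⟨x, hxU⟩).asIdeal.primeCompl
  have he : (algebraMap Γ(X, U) (X.presheaf.stalk x)).comp (algebraMap R Γ(X, U)) = stalkElt p x := by
    change (X.presheaf.germ U x hxU).hom.comp ((p.appLE ⊤ U le_top).hom.comp
      (Scheme.ΓSpecIso (CommRingCat.of R)).inv.hom) = _
    rw [stalkElt, ← RingHom.comp_assoc, ← RingHom.comp_assoc, ← CommRingCat.hom_comp,
      ← CommRingCat.hom_comp, Scheme.Hom.appLE, Category.assoc, TopCat.Presheaf.germ_res]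
    rfl
  rw [he] at h
  exact h

/-- **FINNORM.** -/
theorem finite_integralClosure {R : Type u} [CommRing R] [IsLocalRing R] {X : Scheme.{u}}
    (p : X ⟶ Spec (CommRingCat.of R)) [LocallyOfFiniteType p] (x : X)
    (P : Ideal (X.presheaf.stalk x)) [P.IsPrime] (hP : ∀ r ∈ maximalIdeal R, stalkElt p x r ∈ P) :
    Module.Finite (X.presheaf.stalk x ⧸ P)
      (integralClosure (X.presheaf.stalk x ⧸ P) (FractionRing (X.presheaf.stalk x ⧸ P))) := by
  have h1 := isNagata_stalk p x
  have hle : (maximalIdeal R).map (stalkElt p x) ≤ P := Ideal.map_le_iff_le_comap.2 hP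
  have h2 : CAlg.IsNagata (X.presheaf.stalk x ⧸ P) :=
    NagBasic.isNagata_of_surjective (Ideal.Quotient.factor hle) (Ideal.Quotient.factor_surjective hle) h1
  exact CalgA.NagataBasic.isN1_of_isN2 (NagFinal.isN2_of_isNagata h2)

end Groth.Agent.Sga7.H523.FinNorm
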